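import Mathlib
import Groth.Agent.Lib.Helper4.QuotFlat
import Groth.Agent.S0079

/-!
# Helper24 — descent of the diagonal along a dominated fpqc covering
-/

set_option backward.isDefEq.respectTransparency.types false

namespace Groth.Agent.Lib.Helper24.Quot

open CategoryTheory Limits AlgebraicGeometry MonoidalCategory CartesianMonoidalCategory MonObj
open MorphismProperty
open Groth.Agent.Lib.Helper4 Groth.Agent.Lib.Helper4.FpqcCov Groth.Agent.Lib.Helper4.QuotKer

universe u

variable {S : Scheme.{u}}

instance descendsAlong_quasiCompact :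
    DescendsAlong @QuasiCompact.{u} (@Surjective ⊓ @Flat ⊓ @QuasiCompact) :=
  Groth.Agent.S0079.result

instance descendsAlong_quasiSeparated :
    DescendsAlong @QuasiSeparated.{u} (@Surjective ⊓ @Flat ⊓ @QuasiCompact) := by
  rw [quasiSeparated_eq_diagonal_is_quasiCompact]
  infer_instance

/-- two-step descent of the diagonal along a morphism dominated by an fpqc covering -/
theorem diag_descends (P : MorphismProperty Scheme.{u}) [IsZariskiLocalAtTarget P]
    [P.IsStableUnderBaseChange] [P.DescendsAlong (@Surjective ⊓ @Flat ⊓ @QuasiCompact)]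
    {X Y : Over S} (p : X ⟶ Y) {Z : Scheme.{u}} (r : Z ⟶ X.left) (hq : IsCov (r ≫ p.left))
    (hv : P (lift (pullback.fst p p) (pullback.snd p p)).left) :
    P (pullback.diagonal Y.hom) := by
  have sqA := (isPullback_graph p).map (Over.forget S)
  have sqB := (isPullback_kernelPair p).map (Over.forget S)
  simp only [Over.forget_map] at sqA sqB
  obtain ⟨Z₁, r₁, hq₁⟩ := exists_dominated_baseChange hq
    (MaxOpenGrp.isPullback_whiskerLeft X X Y p)
  have h1 : P (lift (𝟙 X) p).left := descends_of_dominated' P hq₁ sqB hv
  obtain ⟨Z₂, r₂, hq₂⟩ := exists_dominated_baseChange hq (isPullback_whiskerRight Y X Y p)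
  have h0 : P (lift (𝟙 Y) (𝟙 Y)).left := descends_of_dominated' P hq₂ sqA h1
  rwa [diag_left] at h0

end Groth.Agent.Lib.Helper24.Quot
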