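import Mathlib
import Groth.Agent.Lib.Helper24.Quot.DiagDesc
import Groth.Agent.Lib.Helper4.CentralizerClosed
import Groth.Agent.Lib.Helper21.FlatDescS
import Groth.Agent.Lib.Helper21.FlatDescT
import Groth.Agent.Lib.Helper21.FlatDescU

/-!
# Helper24 — transfer of finiteness properties to a quotient `G/G'` (SGA3 VI_B 9.2 (xii), (xiii))
-/

set_option backward.isDefEq.respectTransparency.types false

namespace Groth.Agent.Lib.Helper24.Quot

open CategoryTheory Limits AlgebraicGeometry MonoidalCategory CartesianMonoidalCategory MonObj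
open MorphismProperty
open Groth.Agent.Lib.Helper4 Groth.Agent.Lib.Helper4.FpqcCov Groth.Agent.Lib.Helper4.QuotKer
open Groth.Agent.Lib.Helper21.FlatDesc

universe u

variable {S : Scheme.{u}}

/-- quasi-compactness descends along a surjection on the source -/
theorem quasiCompact_of_comp_surjective {X Y Z : Scheme.{u}} (f : X ⟶ Y) (g : Y ⟶ Z)
    [Surjective f] [QuasiCompact (f ≫ g)] : QuasiCompact g := by
  constructor
  intro U hU hUc
  have h1 : IsCompact ((f ≫ g) ⁻¹' U) := QuasiCompact.isCompact_preimage (f := f ≫ g) U hU hUc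
  have h2 : g ⁻¹' U = f '' ((f ≫ g) ⁻¹' U) := by
    ext y
    constructor
    · intro hy
      obtain ⟨x, rfl⟩ := f.surjective y
      exact ⟨x, by simpa using hy, rfl⟩
    · rintro ⟨x, hx, rfl⟩
      simpa using hx
  rw [h2]
  exact h1.image f.continuous

/-- local quasi-finiteness descends along an open surjection on the source -/
theorem locallyQuasiFinite_of_comp_open {X Y Z : Scheme.{u}} (f : X ⟶ Y) (g : Y ⟶ Z)
    [Surjective f] (hopen : IsOpenMap f.base) [LocallyOfFiniteType g] [LocallyOfFiniteType (f ≫ g)]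
    [LocallyQuasiFinite (f ≫ g)] : LocallyQuasiFinite g := by
  rw [locallyQuasiFinite_iff_isDiscrete_preimage_singleton]
  intro z
  have h1 : _root_.IsDiscrete ((f ≫ g) ⁻¹' {z}) :=
    (locallyQuasiFinite_iff_isDiscrete_preimage_singleton (f := f ≫ g)).mp inferInstance z
  rw [isDiscrete_iff_forall_mem_exists_isOpen] at h1 ⊢
  intro y hy
  obtain ⟨x, rfl⟩ := f.surjective y
  have hx : x ∈ (f ≫ g) ⁻¹' {z} := by simpa using hy
  obtain ⟨O, hO, hOx⟩ := h1 x hx
  refine ⟨f '' O, hopen O hO, ?_⟩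
  ext y'
  constructor
  · rintro ⟨⟨x', hx'O, rfl⟩, hy'⟩
    have : x' ∈ O ∩ (f ≫ g) ⁻¹' {z} := ⟨hx'O, by simpa using hy'⟩
    rw [hOx] at this
    rw [Set.mem_singleton_iff] at this ⊢
    rw [this]
  · intro h
    rw [Set.mem_singleton_iff] at h
    subst h
    have : x ∈ O ∩ (f ≫ g) ⁻¹' {z} := by rw [hOx]; exact rfl
    exact ⟨⟨x, this.1, rfl⟩, hy⟩

end Groth.Agent.Lib.Helper24.Quot
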