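import Mathlib
import Groth.Agent.Lib.Helper24.Quot.Transfer

/-!
# Helper24 — SGA3 VI_B 9.2 (xii), (xiii)
-/

set_option backward.isDefEq.respectTransparency.types false

namespace Groth.Agent.Lib.Helper24.Quot

open CategoryTheory Limits AlgebraicGeometry MonoidalCategory CartesianMonoidalCategory MonObj
open MorphismProperty
open Groth.Agent.Lib.Helper4 Groth.Agent.Lib.Helper4.FpqcCov Groth.Agent.Lib.Helper4.QuotKer
open Groth.Agent.Lib.Helper21.FlatDesc

universe u

variable {S : Scheme.{u}} {G G' G'' : Over S} [GrpObj G] [GrpObj G']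

/-- a property of `u` passes to `v : G ×_{G''} G ⟶ G ⊗ G` -/
theorem prop_v (P : MorphismProperty Scheme.{u}) [P.IsStableUnderBaseChange] [P.RespectsIso]
    (u : G' ⟶ G) (p : G ⟶ G'') (hsq : IsPullback ((G ◁ u) ≫ μ[G]) (fst G G') p p)
    (hu : P u.left) : P (lift (pullback.fst p p) (pullback.snd p p)).left := by
  rw [v_eq u p hsq]
  have h1 : IsIso hsq.isoPullback.inv.left :=
    inferInstanceAs (IsIso ((Over.forget S).map hsq.isoPullback.inv))
  have h2 : P (G ◁ u).left :=
    MorphismProperty.of_isPullback (P := P) (MaxOpenGrp.isPullback_whiskerLeft G G' G u).flip hu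
  have : IsIso (lift μ[G] (fst G G)) := isIso_sigma
  have h3 : IsIso (lift μ[G] (fst G G)).left :=
    inferInstanceAs (IsIso ((Over.forget S).map (lift μ[G] (fst G G))))
  rw [Over.comp_left, Over.comp_left]
  rw [P.cancel_left_of_respectsIso, P.cancel_right_of_respectsIso]
  exact h2

theorem main5371 (S : Scheme.{u}) (G G' G'' : Over S) [GrpObj G] [GrpObj G']
    (u : G' ⟶ G) [IsMonHom u] [Mono u] (p : G ⟶ G'')
    (hcov : (∃ (Z : Scheme.{u}) (q : Z ⟶ G''.left) (r : Z ⟶ G.left), r ≫ p.left = q ∧ Surjective q ∧ Flat q ∧
        ∀ V : G''.left.Opens, IsAffineOpen V → ∃ W : Z.Opens, IsCompact (W : Set Z) ∧ q.base '' (W : Set Z) = (V : Set G''.left)))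
    (hsq : IsPullback ((G ◁ u) ≫ μ[G]) (fst G G') p p) :
    ((Flat G'.hom ∧ LocallyOfFinitePresentation G'.hom) ↔
      (Surjective p.left ∧ Flat p.left ∧ LocallyOfFinitePresentation p.left)) ∧
    (Flat p.left → LocallyOfFinitePresentation p.left →
      (LocallyOfFinitePresentation G.hom → LocallyOfFinitePresentation G''.hom) ∧
      (LocallyOfFiniteType G.hom → LocallyOfFiniteType G''.hom) ∧
      (LocallyOfFiniteType G.hom → QuasiCompact G.hom → QuasiCompact G''.hom) ∧
      (Smooth G.hom → Smooth G''.hom) ∧ (Etale G.hom → Etale G''.hom) ∧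
      (FormallyUnramified G.hom → LocallyOfFinitePresentation G.hom → FormallyUnramified G''.hom) ∧
      (LocallyQuasiFinite G.hom → LocallyOfFiniteType G.hom → LocallyQuasiFinite G''.hom)) ∧
    (Flat G'.hom → LocallyOfFinitePresentation G'.hom → QuasiCompact G'.hom → QuasiSeparated G'.hom →
      QuasiCompact p.left ∧ QuasiSeparated p.left ∧ LocallyOfFinitePresentation p.left ∧
      ((LocallyOfFinitePresentation G.hom ∧ QuasiCompact G.hom ∧ QuasiSeparated G.hom) ↔
        (LocallyOfFinitePresentation G''.hom ∧ QuasiCompact G''.hom ∧ QuasiSeparated G''.hom))) := by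
  obtain ⟨Z, q, r, hrq, hs, hf, hc⟩ := hcov
  have hq : IsCov (r ≫ p.left) := by rw [hrq]; exact ⟨hs, hf, hc⟩
  have hs' : Surjective (r ≫ p.left) := hq.1
  have hsurj : Surjective p.left := Surjective.of_comp r p.left
  have sq := hsq.map (Over.forget S)
  simp only [Over.forget_map] at sq
  have squ := (isPullback_unit (G := G) (G' := G')).map (Over.forget S)
  simp only [Over.forget_map] at squ
  have hGw : p.left ≫ G''.hom = G.hom := Over.w p
  have huw : u.left ≫ G.hom = G'.hom := Over.w u
  -- general transfer between `G'.hom` and `p.left`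
  have down : ∀ (P : MorphismProperty Scheme.{u}) [IsZariskiLocalAtTarget P]
      [P.IsStableUnderBaseChange] [P.DescendsAlong (@Surjective ⊓ @Flat ⊓ @QuasiCompact)],
      P G'.hom → P p.left := by
    intro P _ _ _ h
    have hfst : P (fst G G').left := by
      rw [Over.fst_left]
      exact MorphismProperty.pullback_fst (P := P) _ _ h
    exact descends_of_dominated' P hq sq hfst
  have up : ∀ (P : MorphismProperty Scheme.{u}) [P.IsStableUnderBaseChange],
      P p.left → P G'.hom := by
    intro P _ h
    have hfst : P (fst G G').left := MorphismProperty.of_isPullback (P := P) sq h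
    have := MorphismProperty.of_isPullback (P := P) squ hfst
    rwa [Over.toUnit_left] at this
  -- unramified
  have unr : Flat p.left → LocallyOfFinitePresentation p.left → FormallyUnramified G.hom →
      LocallyOfFinitePresentation G.hom → FormallyUnramified G''.hom := by
    intro hpf hpp hGu hGp
    have hG'f : Flat G'.hom := up @Flat hpf
    have hG'p : LocallyOfFinitePresentation G'.hom := up @LocallyOfFinitePresentation hpp
    have hGt : LocallyOfFiniteType G.hom := inferInstance
    have hup : LocallyOfFinitePresentation u.left :=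
      CentralizerClosed.lfp_of_comp u.left G.hom (by rw [huw]; exact hG'p) hGt
    have hum : Mono u.left := inferInstance
    have hdi : IsIso (pullback.diagonal u.left) := (pullback.isIso_diagonal_iff u.left).mpr hum
    have huu : FormallyUnramified u.left := inferInstance
    have hG'u : FormallyUnramified G'.hom := by
      rw [← huw]
      exact MorphismProperty.comp_mem @FormallyUnramified _ _ huu hGu
    have hG'e : Etale G'.hom := Etale.of_formallyUnramified_of_flat _
    have hue : Etale u.left := by
      haveI : Etale (u.left ≫ G.hom) := by rw [huw]; exact hG'e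
      exact Etale.of_comp u.left G.hom
    have huo : IsOpenImmersion u.left := IsOpenImmersion.of_flat_of_mono u.left
    have hv := prop_v @IsOpenImmersion u p hsq huo
    have hd : IsOpenImmersion (pullback.diagonal G''.hom) :=
      diag_descends @IsOpenImmersion p r hq hv
    infer_instance
  refine ⟨⟨?_, ?_⟩, ?_, ?_⟩
  · rintro ⟨h1, h2⟩
    exact ⟨hsurj, down @Flat h1, down @LocallyOfFinitePresentation h2⟩
  · rintro ⟨-, h1, h2⟩
    exact ⟨up @Flat h1, up @LocallyOfFinitePresentation h2⟩
  · intro hpf hpp
    refine ⟨?_, ?_, ?_, ?_, ?_, ?_, ?_⟩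
    · intro h
      haveI : LocallyOfFinitePresentation (p.left ≫ G''.hom) := by rw [hGw]; exact h
      exact locallyOfFinitePresentation_of_fppf_comp p.left G''.hom
    · intro h
      haveI : LocallyOfFiniteType (p.left ≫ G''.hom) := by rw [hGw]; exact h
      exact locallyOfFiniteType_of_fppf_comp p.left G''.hom
    · intro _ h
      haveI : QuasiCompact (p.left ≫ G''.hom) := by rw [hGw]; exact h
      exact quasiCompact_of_comp_surjective p.left G''.hom
    · intro h
      haveI : Smooth (p.left ≫ G''.hom) := by rw [hGw]; exact h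
      exact smooth_of_fppf_comp p.left G''.hom
    · intro h
      haveI : Smooth (p.left ≫ G''.hom) := by rw [hGw]; infer_instance
      have h1 : Smooth G''.hom := smooth_of_fppf_comp p.left G''.hom
      have h2 : FormallyUnramified G''.hom := unr hpf hpp inferInstance inferInstance
      exact Etale.of_formallyUnramified_of_flat _
    · exact unr hpf hpp
    · intro h ht
      haveI : LocallyOfFiniteType (p.left ≫ G''.hom) := by rw [hGw]; exact ht
      haveI : LocallyQuasiFinite (p.left ≫ G''.hom) := by rw [hGw]; exact h
      haveI : LocallyOfFiniteType G''.hom := locallyOfFiniteType_of_fppf_comp p.left G''.hom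
      exact locallyQuasiFinite_of_comp_open p.left G''.hom p.left.isOpenMap
  · intro h1 h2 h3 h4
    have hpf : Flat p.left := down @Flat h1
    have hpp : LocallyOfFinitePresentation p.left := down @LocallyOfFinitePresentation h2
    have hpc : QuasiCompact p.left := down @QuasiCompact h3
    have hps : QuasiSeparated p.left := down @QuasiSeparated h4
    refine ⟨hpc, hps, hpp, ⟨?_, ?_⟩⟩
    · rintro ⟨a, b, c⟩
      haveI : LocallyOfFinitePresentation (p.left ≫ G''.hom) := by rw [hGw]; exact a
      haveI : QuasiCompact (p.left ≫ G''.hom) := by rw [hGw]; exact b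
      refine ⟨locallyOfFinitePresentation_of_fppf_comp p.left G''.hom,
        quasiCompact_of_comp_surjective p.left G''.hom, ?_⟩
      -- quasi-separated: the diagonal is quasi-compact
      have huc : QuasiCompact u.left := by
        have : QuasiCompact (u.left ≫ G.hom) := by rw [huw]; exact h3
        exact MorphismProperty.of_postcomp (W := @QuasiCompact) (W' := @QuasiSeparated)
          u.left G.hom c this
      have hv := prop_v @QuasiCompact u p hsq huc
      have hd : QuasiCompact (pullback.diagonal G''.hom) :=
        diag_descends @QuasiCompact p r hq hv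
      exact ⟨hd⟩
    · rintro ⟨a, b, c⟩
      rw [← hGw]
      exact ⟨inferInstance, inferInstance, inferInstance⟩

end Groth.Agent.Lib.Helper24.Quot
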