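import Mathlib
import Groth.Prelude.Def_AlgGrp
import Groth.Agent.Lib.Helper21.FlatDescU

/-!
# Helper24 — the quotient of a group scheme over a field by a surjective closed subgroup is
the spectrum of a finite local algebra (SGA3 VI_B 11.?)
-/

set_option backward.isDefEq.respectTransparency.types false

namespace Groth.Agent.Lib.Helper24.Quot

open CategoryTheory Limits AlgebraicGeometry MonoidalCategory CartesianMonoidalCategory MonObj
open MorphismProperty
open Groth.Agent.Lib.Helper21.FlatDesc

universe u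

/-- a section of a morphism induces an isomorphism of residue fields -/
theorem isIso_residueFieldMap_of_section {X Y : Scheme.{u}} (f : X ⟶ Y) (s : Y ⟶ X)
    (h : s ≫ f = 𝟙 Y) (y : Y) : IsIso (f.residueFieldMap (s y)) := by
  have h1 : IsIso ((s ≫ f).residueFieldMap y) := by
    rw [Scheme.Hom.residueFieldMap_congr h]
    infer_instance
  rw [Scheme.residueFieldMap_comp] at h1
  have h2 : Function.Bijective (f.residueFieldMap (s y) ≫ s.residueFieldMap y).hom :=
    (ConcreteCategory.isIso_iff_bijective _).mp h1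
  have h3 : Function.Injective (s.residueFieldMap y).hom := RingHom.injective _
  have h4 : Function.Surjective (s.residueFieldMap y).hom := by
    intro b
    obtain ⟨a, ha⟩ := h2.2 b
    exact ⟨(f.residueFieldMap (s y)).hom a, ha⟩
  have h5 : IsIso (s.residueFieldMap y) :=
    (ConcreteCategory.isIso_iff_bijective _).mpr ⟨h3, h4⟩
  exact @IsIso.of_isIso_comp_right _ _ _ _ _ (f.residueFieldMap (s y)) (s.residueFieldMap y) h5 h1

variable {k : Type u} [Field k]

theorem main6084 (F G : Over (Spec (CommRingCat.of k))) [GrpObj F] [GrpObj G]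
    [LocallyOfFiniteType G.hom] (u : F ⟶ G) [Surjective u.left]
    (X : Over (Spec (CommRingCat.of k))) (p : G ⟶ X) [Flat p.left] [Surjective p.left]
    [LocallyOfFinitePresentation p.left]
    (hp : IsPullback ((u ▷ G) ≫ μ[G]) (snd F G) p p) :
    IsAffine X.left ∧ (∃ x : X.left, (Set.univ : Set X.left) = {x} ∧
      IsIso (X.hom.residueFieldMap x)) ∧
      ((Scheme.ΓSpecIso (CommRingCat.of k)).inv ≫ X.hom.appTop).hom.Finite := by
  obtain ⟨pt⟩ : Nonempty (Spec (CommRingCat.of k)) := inferInstance
  have hsub : Subsingleton (Spec (CommRingCat.of k)) :=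
    inferInstanceAs (Subsingleton (PrimeSpectrum k))
  obtain ⟨s, hsdef⟩ : ∃ s : Spec (CommRingCat.of k) ⟶ X.left, s = (η[G] ≫ p).left := ⟨_, rfl⟩
  have hs : s ≫ X.hom = 𝟙 _ := by
    have := Over.w (η[G] ≫ p)
    rw [hsdef]
    simpa using this
  -- all points of `X` coincide
  have key : ∀ g : G.left, p.left g = s pt := by
    intro g
    obtain ⟨f, rfl⟩ := u.left.surjective g
    have e1 : lift (𝟙 F) (toUnit F ≫ η[G]) ≫ (u ▷ G) ≫ μ[G] = u := by
      rw [← Category.assoc, lift_whiskerRight, Category.id_comp, ← Hom.mul_def, ← Hom.one_def,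
        _root_.mul_one]
    have e2 : lift (𝟙 F) (toUnit F ≫ η[G]) ≫ snd F G = toUnit F ≫ η[G] := lift_snd _ _
    have e3 : u ≫ p = (toUnit F ≫ η[G]) ≫ p := by
      calc u ≫ p = (lift (𝟙 F) (toUnit F ≫ η[G]) ≫ (u ▷ G) ≫ μ[G]) ≫ p := by rw [e1]
        _ = lift (𝟙 F) (toUnit F ≫ η[G]) ≫ ((u ▷ G) ≫ μ[G]) ≫ p := by
          simp only [Category.assoc]
        _ = lift (𝟙 F) (toUnit F ≫ η[G]) ≫ snd F G ≫ p := by rw [hp.w]
        _ = (toUnit F ≫ η[G]) ≫ p := by rw [← Category.assoc, e2]
    have e4 := congrArg (fun φ => φ.left f) e3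
    simp only [Over.comp_left, Scheme.Hom.comp_apply] at e4
    rw [e4, hsdef]
    simp only [Over.comp_left, Scheme.Hom.comp_apply]
    congr 2
    exact @Subsingleton.elim _ hsub _ _
  have hX : Subsingleton X.left := by
    refine ⟨fun x y => ?_⟩
    obtain ⟨g, rfl⟩ := p.left.surjective x
    obtain ⟨g', rfl⟩ := p.left.surjective y
    rw [key g, key g']
  have hXt : LocallyOfFiniteType X.hom := by
    haveI : LocallyOfFiniteType (p.left ≫ X.hom) := by rw [Over.w p]; infer_instance
    exact locallyOfFiniteType_of_fppf_comp p.left X.hom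
  have haff : IsAffine X.left := inferInstance
  refine ⟨haff, ⟨s pt, ?_, isIso_residueFieldMap_of_section X.hom s hs pt⟩, ?_⟩
  · ext x
    simp only [Set.mem_univ, Set.mem_singleton_iff, true_iff]
    exact Subsingleton.elim _ _
  · have hφ : (X.hom.appTop).hom.FiniteType :=
      (HasRingHomProperty.iff_of_isAffine (P := @LocallyOfFiniteType)).mp hXt
    have hφt : ((Scheme.ΓSpecIso (CommRingCat.of k)).inv ≫ X.hom.appTop).hom.FiniteType := by
      rw [CommRingCat.hom_comp]
      refine RingHom.FiniteType.comp hφ (RingHom.FiniteType.of_surjective _ ?_)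
      exact (ConcreteCategory.bijective_of_isIso (Scheme.ΓSpecIso (CommRingCat.of k)).inv).2
    generalize ((Scheme.ΓSpecIso (CommRingCat.of k)).inv ≫ X.hom.appTop).hom = φ at hφt ⊢
    algebraize [φ]
    have hft : Algebra.FiniteType k Γ(X.left, ⊤) := hφt
    have hps : Subsingleton (PrimeSpectrum Γ(X.left, ⊤)) :=
      X.left.isoSpec.hom.homeomorph.symm.injective.subsingleton
    have hqf : Algebra.QuasiFinite k Γ(X.left, ⊤) :=
      Algebra.QuasiFinite.iff_finite_comap_preimage_singleton.mpr (fun x => Set.toFinite _)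
    exact Module.Finite.of_quasiFinite

end Groth.Agent.Lib.Helper24.Quot
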